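import Cfsg.Agent.CpAutRuFive.Cert
import Cfsg.Agent.H761.RuFull
import Cfsg.Agent.H493.RatB.HS
import Cfsg.Agent.H289.Eight.RuDeg
import Cfsg.Agent.FastGrp
import Cfsg.Agent.Prune
set_option linter.all false
prune_inst 0x7f00000000000000000000000000000000000000000000000000000000000000000000000000000000000000000000000000000000000000000000000000000000000000000000000000000000000000003fffffffffffffffffffffffffffbeffbdfbfeffff
open scoped Cfsg.Agent.FastGrp

-- part: H68/RatB/RuCert
section
/-!
# The centralizer of a Sylow 3-subgroup of the Rudvalis group has order 3: the certificate (helper68)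

In the model `RuOrder.H`; `x3`, `y3`, `z3` are the words of helper761, the engine is helper21's.
-/

set_option autoImplicit false
set_option maxRecDepth 100000
set_option exponentiation.threshold 5000
set_option linter.style.longLine false

namespace Cfsg.Agent.H68.RatB.RuCert

open Cfsg.Agent.SporadicB Cfsg.Agent.RuD.Letters Cfsg.Agent.SporRec.TCUpperCert Cfsg.Agent.CpAutRuFive.Eng
open Cfsg.Agent.KFacts.Ru.CentEng Cfsg.Agent.H761.RuFull

/-- the points adjacent to their image under `x3` -/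
def MX : ℕ := 0x45259f20f90be5b781069878bfd3bc01c5a93c41e886d50f9edb3d20d8f052b1d8173063ed243371e1943170618f6d948c3c1a763a8ec16cf9ec10cc3004ebe455debc178b00b0a2240bd3a9a0d38a4001a8e140dd8267107938a6398f749419d71da8649a00b5f07a5615df40415f24e4a5053916ca9a94f06a8a30b8698b989c5adaf402115b8e69fa961ac7d4eaf9adb8279c6ea2fe5bbcb468074da432d9c12f4085633847c55baa024c9f322012471f0b72ebcc031ad82e52b3c8a29131b4df706955cf6c2c953c98504c0fb892cb3848c3ddd304ade3aec37f32e6d7aaa1f3e2b51129c204f93cf952a62f46e08c0532fd8a7042405824c71b5d50e56949efe03c805ad8f780550d88e5ec762314096bf82cbb104088061c81dd0a1464a67d1c776172a87679e03c37fac7be845510775d75564b1b4f7619c14dc0e6a0be8218fc2f7d46abe79b9408fd5c2298d3036a3e04935a66cadd34a675d908a7026342277c22290c7545028705229959015272403adf8d7f1b017db461e11a992be82e21e84a0bc9b449202fa00451433f677d872400851b4791c54d4947474c1c0ef8c6fb0185cc4c4e5b8511f34307ecaaeb0cbc0bbc93d1dca2b1b288a6ce52fceec5808fc4aab75405f5cf1c7606b81247731229b2d7f191c768085d13da778372b09b80862484bc3d88acae4055e389caad33e659988174591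

/-- the points adjacent to their image under `y3` -/
def MY : ℕ := 0x2606c14fd40e17e5e8c2e0479391bd98dfd0b48eb92ae0250237307462e9438e80b051fe6436bca25fe27102537cd6aa3be599e6bb49cecb52fab641806e9de5d95c9154ec2456b01a25a2001b0d12d866a1b1e433c202857ca24109436e9c572a39483f35c783315213d17e5b09afb041a5e771bfd8cffe4d3846555bc5497c2a972706b31f788784deda9f14b4742225e22096a77369944a907c013c60db3b0a573c60ba9db9854068b09ecc97f0410ad32b65261605c69dd43834ed29ee914406321b71a021267872688249040d40c70215f660f3d696285afdeb4697da25a5234927703a3073ccad17046ad0229e38df3c0190da4a922168c77b114ae8d0412804f86040de274ad71f61c3668601874e33cd350110947c69fb4b90805ab470b85cb5b4e26e4b35ab034539425af4555c45e68caaa3701a041639e6d6834cfe9fcc21b85e52bba786d450a34d693c7114511755d53b870a9d2683a4cac1dbb2bdb6691a06e8f53a018a18e333b8f74314fd0e1056edd88dcd4774cfc582a1fe9aa5e2740683ea103c8b1289265348a12271a9036351f784510532cee5a07ddcbb58c1ba8f97f71b2f30b1b05adb8318a1f87cbc82d21a921b5ee15904a8fb5fcaff09a08155e13a890fed137f7281c0565e3da93130d67d9b8961461b840c904b727c61bfa0828f8276328c00ad84a0c1ff2935634a177052310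

/-- the points adjacent to their image under `z3` -/
def MZ : ℕ := 0x2626c82cc55d5b8403ec6d34aa89dc830d707213f85d4722ec121c3f5bbc12e2df045a5280ecf622d584ba6831fec78631b8b27016aeea14ab16f8341925fab5d7978c17a38477b13c2ed2df40658ff8aadb171e4ab07a04f366f609d302454a30f1f477d28b6574d2d1549c5c46cca0d7b5270a4233275745311554570eb6150981ebf08fd8048c51c87ed517c3f1d417e88199299664600cf768930c3a35662f435500b356f1d0427b9a670a44ea58986daa71a50b66750ec8ea07f4a7fa01302d7c6107ac942cbe98fa72c40d1b5065acc24075d216e5641fb62954b2fdb8a498b82b930bd076b050ae083ce16a9e94882252ac351cc0a976018b0c4da075267b237caba65c0f9b440ecb83691aa987a8d55d469222539001534e1b1a34e72b32d06b00ba0f295eed5457be0fd695372547ad182a9af2220c618add92a39c95cb1f332586f2383420d5089c3cabb5d17354078cf25a86c80991a43effd4f3ba0d14d64f267c36fe0f64d94db232cbe9a1708022c64cf0b8e7d2577e0207c4f6a0c499d813206a054ce31e09b426022bde6167283187af6f11050728d618a81cf97bf7848306593c372a6000e25a05ab4baf0aa58f6a90b296d03199008b0fb9eebe0c18ab99c93b3d490655e6790460103bad1068f1516099ea654018af63830da7355287b18a8f98167b207361c195b2bd02f125f010ed76850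

/-- the points adjacent to their image under `x3 ++ y3` -/
def MXY : ℕ := 0xf537d82a691e02e21acbdc36b0e0e0c98434ddcde9f0729024591b3747990d4b6a8852d32cbed2ebe4ab986839383cd9370816befff2eac4ac25c278e376617157d73492cf6d7b480c84f332ed76c9112fbb971a6aa2bd4b49463daf81d14b5065ea6594c199668e9a33c8941d1485cd96740eca7ac065117064920773b4a210533ff6c6193563e33db42e535425198499e108aa43e2c7f330934d0652e9aea200e4f865da525f33485fd8832900a02a84a88adc307fc3d20e44cd08560c5a80f08d4c3386858badef03564ac1e03f8e6c353ba7b182bfdcf636dcb71aa41a23217e87d82f879e4b0589600a78ad3337931e6a03c8e599637114830b2dcf5d8e66930170e09c9880743012651b525ca09bf8e558063223404b99ec6003546ed451e18f6f0df2877039c9343426c444de613d241d71bace5f23cf41d24f00dcdc9159ce88708cf612504da66972a503e51c1247028183058eebbbe44a9e50e4a98104819ca59c6f0727ee9dac8fc109fe1ec2078ea2c7740c23782e5431fe8e1b059a5b210589214a4b61e83024bbf53e06c06389b232875fe805c2049553ffab64c777b0246dd6ea2efd790082b08204495bdf816406fa023ec39b523e988964d9c75808a02d8788394f62483c976ab693300f87cd0843d113996bc972148e6b28558555a98671d698250257a31034b28c79d3a6346c60f9a7c7974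

/-- instructions -/
def ins : List St := [
  .cnt 1 891, .and 0 1, .base 0 1349, .cnt 5 1, .and 0 10, .and 0 2, .diff 0 10, .diff 0 14, .and 0 7,
  .and 0 14, .diff 0 8, .pt 0 129, .and 2 14, .and 0 16, .and 0 15, .and 0 23, .diff 0 25, .diff 0 28,
  .diff 0 7, .and 0 29, .pt 0 2740, .and 9 13, .and 0 15, .and 0 4, .pt 0 3262, .and 7 33, .diff 0 45,
  .pt 0 3883, .and 24 2, .and 0 9, .and 0 2, .pt 0 2745]

theorem adjX : chkAdj x3 MX = true := by decide +kernel
theorem adjY : chkAdj y3 MY = true := by decide +kernel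
theorem adjZ : chkAdj z3 MZ = true := by decide +kernel
theorem adjXY : chkAdj (x3 ++ y3) MXY = true := by decide +kernel

theorem runP : run x3 ins [MX, MY, MZ, MXY] = some 3 := by decide +kernel


end Cfsg.Agent.H68.RatB.RuCert
end

-- part: H68/RatB/Ru
section
/-!
# S4891 (TEAM B0-RAT), sporadic row Ru (helper68)

* `p = 5` (and `2`, `7`, `29`): rank 3 on 4060 points;
* `p = 3`: the centralizer of a Sylow 3-subgroup is a 3-group; the character of degree 406 (symmetric square of the
  28-dimensional representation of the fourfold cover) has values in `ℚ(i)`.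
-/

set_option autoImplicit false
set_option maxRecDepth 100000

namespace Cfsg.Agent.H68.RatB.Ru

open Cfsg Subgroup Cfsg.Agent.Characters.Core Cfsg.Agent.H493.RatB Cfsg.Agent.H145.BR
open Cfsg.Spor Cfsg.Agent.RuLat Cfsg.Agent.SporadicB Cfsg.Agent.RuD.Letters Cfsg.Agent.SporRec.TCUpperCert
open Cfsg.Agent.CpAutRuFive.Eng Cfsg.Agent.KFacts.Ru.CentEng Cfsg.Agent.H761.RuFull Cfsg.Agent.H68.RatB.RuCert
open scoped commutatorElement

universe u

/-! ### the centralizer of a Sylow 3-subgroup -/

/-- `|C(⟨x, y⟩)| ≤ 3` -/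
theorem card_cen : Nat.card (Cen [x3, y3]) ≤ 3 := by
  refine card_le_of_run (w := x3) List.mem_cons_self ?_ runP
  intro m hm
  simp only [List.mem_cons, List.not_mem_nil, or_false] at hm
  have kx : ∀ c ∈ Cen [x3, y3], c * wprod ml x3 = wprod ml x3 * c := fun c hc => hc _ List.mem_cons_self
  have ky : ∀ c ∈ Cen [x3, y3], c * wprod ml y3 = wprod ml y3 * c := fun c hc =>
    hc _ (List.mem_cons_of_mem _ (List.mem_singleton.2 rfl))
  have kz : ∀ c ∈ Cen [x3, y3], c * wprod ml z3 = wprod ml z3 * c := by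
    intro c hc
    have h1 : ⁅(wprod ml x3 : RuOrder.H), wprod ml y3⁆ = wprod ml z3 := comm_eq k3c
    rw [← h1, commutatorElement_def]
    have hx : Commute c (wprod ml x3) := kx c hc
    have hy : Commute c (wprod ml y3) := ky c hc
    exact ((hx.mul_right hy).mul_right hx.inv_right).mul_right hy.inv_right
  rcases hm with rfl | rfl | rfl | rfl
  · exact ⟨x3, kx, adjX⟩
  · exact ⟨y3, ky, adjY⟩
  · exact ⟨z3, kz, adjZ⟩
  · exact ⟨x3 ++ y3, fun x hx => CpAutRuFive.Cert.comm_append (kx x hx) (ky x hx), adjXY⟩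

/-- the Sylow 3-subgroup -/
def U : Subgroup RuOrder.H := closure {wprod ml x3, wprod ml y3}

theorem comm_z {g : RuOrder.H} (hx : g * wprod ml x3 = wprod ml x3 * g) (hy : g * wprod ml y3 = wprod ml y3 * g) :
    g ∈ centralizer (U : Set RuOrder.H) := by
  have h1 : U ≤ centralizer {g} := by
    rw [U, closure_le]
    rintro a (rfl | rfl)
    · exact mem_centralizer_singleton_iff.2 hx.symm
    · exact mem_centralizer_singleton_iff.2 hy.symm
  rw [mem_centralizer_iff]
  intro a ha
  exact mem_centralizer_singleton_iff.1 (h1 ha)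

theorem zz : ⁅(wprod ml x3 : RuOrder.H), wprod ml y3⁆ = wprod ml z3 := comm_eq k3c

theorem zx : (wprod ml z3 * wprod ml x3 : RuOrder.H) = wprod ml x3 * wprod ml z3 := eq2 k3zx

theorem zy : (wprod ml z3 * wprod ml y3 : RuOrder.H) = wprod ml y3 * wprod ml z3 := eq2 k3zy

theorem z_pow : (wprod ml z3 : RuOrder.H) ^ 3 = 1 := by
  have h1 : (wprod ml gx3 * wprod ml z3 : RuOrder.H) = wprod ml x3 * wprod ml gx3 := eq2 k3gx
  have e : wprod ml gx3 * wprod ml z3 * (wprod ml gx3)⁻¹ = (wprod ml x3 : RuOrder.H) := by rw [h1]; group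
  have h2 : ((wprod ml gx3 : RuOrder.H) * wprod ml z3 * (wprod ml gx3)⁻¹) ^ 3 = 1 := by rw [e]; exact pow3 k3x
  rw [conj_pow] at h2
  exact conj_eq_one_iff.1 h2

theorem isPGroup_U : IsPGroup 3 U := by
  refine H51.Tools.isPGroup_closure (pow3 k3x) (pow3 k3y) ?_ ?_ ?_
  · rw [zz]; exact z_pow
  · rw [zz]; exact zx
  · rw [zz]; exact zy

theorem isPGroup_centralizer_U : IsPGroup 3 (centralizer (U : Set RuOrder.H)) := by
  have := finite_H
  have h3 : Fact (Nat.Prime 3) := ⟨Nat.prime_three⟩
  have h1 : Nat.card (centralizer (U : Set RuOrder.H)) ≤ 3 := by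
    refine le_trans (Nat.le_of_dvd Nat.card_pos (Subgroup.card_dvd_of_le ?_)) card_cen
    intro g hg w hw
    have h2 := mem_centralizer_iff.1 hg
    simp only [List.mem_cons, List.not_mem_nil, or_false] at hw
    rcases hw with rfl | rfl
    · exact (h2 _ (subset_closure (by simp))).symm
    · exact (h2 _ (subset_closure (by simp))).symm
  have h2 : 3 ∣ Nat.card (centralizer (U : Set RuOrder.H)) := by
    have h4 : orderOf (wprod ml z3 : RuOrder.H) = 3 := orderOf_eq_prime z_pow (H761.RuFull.ne_one k3ne)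
    have h5 := orderOf_dvd_natCard (⟨wprod ml z3, comm_z zx zy⟩ : centralizer (U : Set RuOrder.H))
    rwa [Subgroup.orderOf_mk, h4] at h5
  rw [IsPGroup.iff_card]
  have h4 : 0 < Nat.card (centralizer (U : Set RuOrder.H)) := Nat.card_pos
  exact ⟨1, by omega⟩

/-! ### the character of degree 406 has values in `ℚ(i)` -/

section chi

open Cfsg.Agent.H289.Eight.RuRep Cfsg.Agent.H289.Eight.RuDeg Cfsg.Agent.H289.Eight.SqIrr Module

/-- `ℚ(i)` -/
noncomputable def K : IntermediateField ℚ ℂ :=
  IntermediateField.adjoin ℚ ({Complex.exp (2 * Real.pi * Complex.I / (4 : ℕ))} : Set ℂ)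

theorem I_mem : Complex.I ∈ K := by
  have h1 : Complex.exp (2 * Real.pi * Complex.I / (4 : ℕ)) = Complex.I := by
    have e : (2 * Real.pi * Complex.I / (4 : ℕ) : ℂ) = Real.pi / 2 * Complex.I := by
      push_cast
      ring
    rw [e, Complex.exp_pi_div_two_mul_I]
  have h2 : Complex.exp (2 * Real.pi * Complex.I / (4 : ℕ)) ∈ K := IntermediateField.mem_adjoin_simple_self ℚ _
  rwa [h1] at h2

theorem toComplex_mem (a : GaussianInt) : GaussianInt.toComplex a ∈ K := by
  rw [GaussianInt.toComplex_def]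
  refine add_mem ?_ (mul_mem ?_ I_mem)
  · exact intCast_mem K _
  · exact intCast_mem K _

theorem chi_mem (g : fourRu) : chi g ∈ K := by
  have h1 : chi g = ∑ q : RuIdx, (4 : ℂ)⁻¹ * GaussianInt.toComplex ((g.1 (E q) : RuVec) q) := by
    show LinearMap.trace ℂ V (rl g) = _
    rw [LinearMap.trace_eq_matrix_trace ℂ (Pi.basisFun ℂ RuIdx), Matrix.trace]
    refine Finset.sum_congr rfl fun q _ => ?_
    rw [Matrix.diag_apply, LinearMap.toMatrix_apply, Pi.basisFun_apply, rl_single, Pi.basisFun_repr, Pi.smul_apply,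
      smul_eq_mul]
    rfl
  rw [h1]
  refine sum_mem fun q _ => mul_mem (inv_mem ?_) (toComplex_mem _)
  have : ((4 : ℕ) : ℂ) ∈ K := natCast_mem K 4
  simpa using this

theorem symF_mem (g : fourRu) : symF chi g ∈ K := by
  unfold symF
  have h2 : ((2 : ℕ) : ℂ) ∈ K := natCast_mem K 2
  have h3 : (2 : ℂ) ∈ K := by simpa using h2
  exact div_mem (add_mem (pow_mem (chi_mem g) 2) (chi_mem _)) h3

theorem sup_eq : commutator fourRu ⊔ center fourRu = ⊤ := by
  have h2 : (commutator fourRu).map (QuotientGroup.mk' (Subgroup.center fourRu)) = ⊤ := by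
    rw [commutator_def, Subgroup.map_commutator, ← MonoidHom.range_eq_map,
      MonoidHom.range_eq_top.2 (QuotientGroup.mk'_surjective _), ← commutator_def]
    exact perfect_ru
  have h3 := congrArg (Subgroup.comap (QuotientGroup.mk' (Subgroup.center fourRu))) h2
  rwa [Subgroup.comap_map_eq, QuotientGroup.ker_mk', Subgroup.comap_top] at h3

/-- the linear character has the values `±1` -/
theorem lam_sq {l : fourRu →* ℂˣ} (hl : (l iz : ℂ) = -1) (g : fourRu) : l g = 1 ∨ l g = -1 := by
  have h0 : l iz = -1 := Units.ext (by rw [hl]; simp)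
  have h1 : ((l * l : fourRu →* ℂˣ)).ker = ⊤ := by
    rw [eq_top_iff, ← sup_eq, sup_le_iff]
    refine ⟨Abelianization.commutator_subset_ker _, ?_⟩
    intro z hz
    obtain ⟨e, rfl⟩ := center_eq hz
    rw [MonoidHom.mem_ker, MonoidHom.mul_apply, map_pow, h0, ← mul_pow]
    simp
  have h2 : g ∈ ((l * l : fourRu →* ℂˣ)).ker := by rw [h1]; trivial
  rw [MonoidHom.mem_ker, MonoidHom.mul_apply] at h2
  have h3 : ((l g : ℂˣ) : ℂ) * (l g : ℂˣ) = 1 := by rw [← Units.val_mul, h2, Units.val_one]
  rcases mul_self_eq_one_iff.1 h3 with h4 | h4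
  · exact Or.inl (Units.ext h4)
  · exact Or.inr (Units.ext (by rw [h4]; simp))

theorem exists_406 : ∃ χ : IrrCharacter Spor.Ru, (χ : Spor.Ru → ℂ) 1 = (406 : ℕ) ∧ ∀ g, (χ : Spor.Ru → ℂ) g ∈ K := by
  classical
  obtain ⟨l, hl⟩ := exists_lam
  have hσ := irr.1
  have hψ := H689.isIrr_mul_linear hσ l
  have key : ∀ (e : ℕ), (l (iz ^ e) : ℂ) * symF chi (iz ^ e) = symF chi 1 := by
    intro e
    induction e with
    | zero => rw [pow_zero, map_one, Units.val_one, one_mul]
    | succ e ih => rw [pow_succ', map_mul, Units.val_mul, hl, symF_iz, ← ih]; ring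
  have := Fintype.ofFinite (Subgroup.center fourRu)
  obtain ⟨χ', h'⟩ := Blocks.Deflate.exists_deflation (Subgroup.center fourRu) _ hψ (by
    have h1 : ∀ n : Subgroup.center fourRu, (l (n : fourRu) : ℂ) * symF chi (n : fourRu) = symF chi 1 := by
      rintro ⟨z, hz⟩
      obtain ⟨e, rfl⟩ := center_eq hz
      exact key e
    rw [Finset.sum_congr rfl fun n _ => h1 n, Finset.sum_const, nsmul_eq_mul]
    exact mul_ne_zero (Nat.cast_ne_zero.2 (Finset.card_ne_zero.2 ⟨1, Finset.mem_univ _⟩))
      (isIrr_apply_one_ne_zero hσ))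
  refine ⟨χ', ?_, fun g => ?_⟩
  · have h2 := congrFun h' 1
    rw [map_one, Units.val_one, one_mul] at h2
    refine h2.symm.trans ?_
    unfold symF
    rw [mul_one, chi_one]
    norm_num
  · obtain ⟨g, rfl⟩ := QuotientGroup.mk_surjective g
    have h2 : (l g : ℂ) * symF chi g = (χ' : Spor.Ru → ℂ) (QuotientGroup.mk g) := congrFun h' g
    rw [← h2]
    rcases lam_sq hl g with h3 | h3
    · rw [h3, Units.val_one, one_mul]
      exact symF_mem g
    · rw [h3, Units.val_neg, Units.val_one, neg_one_mul]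
      exact neg_mem (symF_mem g)

end chi

/-! ### the rows -/

theorem witS_model : WitS 3 RuOrder.H := by
  have := finite_H
  have h3 : Fact (Nat.Prime 3) := ⟨Nat.prime_three⟩
  obtain ⟨χ, h1, h2⟩ := exists_406
  let e : RuOrder.H ≃* Spor.Ru := RuLat.Main.equiv.symm
  have hir : IsIrrCharacter RuOrder.H (fun x => (χ : Spor.Ru → ℂ) (e x)) :=
    isIrr_comp e.toMonoidHom e.surjective χ.2
  have hd : charDegree (fun x => (χ : Spor.Ru → ℂ) (e x)) = 406 := by
    apply Blocks.Basic.charDegree_of_eq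
    rw [map_one, h1]
  refine witS_of_cent isPGroup_U isPGroup_centralizer_U ⟨_, hir⟩ ?_ ?_ ⟨4, by norm_num, fun g => h2 (e g)⟩
  · intro h
    have h4 := congrFun h 1
    have h5 : (χ : Spor.Ru → ℂ) (e 1) = 1 := h4
    rw [map_one, h1] at h5
    norm_num at h5
  · show ¬ 3 ∣ charDegree (fun x => (χ : Spor.Ru → ℂ) (e x))
    rw [hd]
    norm_num

/-- **[row] Ru, p = 3** (`p`-rational) -/
theorem witS_ru_three {S : Type u} [Group S] (h : Spor.IsoRu S) : WitS 3 S := by
  obtain ⟨e⟩ := h
  have := finite_H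
  have : Finite S := Finite.of_equiv _ (e.trans RuLat.Main.equiv).symm.toEquiv
  have h3 : Fact (Nat.Prime 3) := ⟨Nat.prime_three⟩
  exact WitS.congr (e.trans RuLat.Main.equiv) witS_model

/-- **[row] Ru, p divides 4060** -/
theorem witR_ru {p : ℕ} [hp : Fact p.Prime] (hd : p ∣ 4060) {S : Type u} [Group S] (h : Spor.IsoRu S) : WitR p S := by
  obtain ⟨e⟩ := h
  have := finite_H
  have : Finite S := Finite.of_equiv _ (e.trans RuLat.Main.equiv).symm.toEquiv
  obtain ⟨R, hR⟩ := H690.Spor.Ru.r3
  exact WitR.congr (e.trans RuLat.Main.equiv) (witR_of_r3 hR (by simpa using hd) (by decide +kernel))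

end Cfsg.Agent.H68.RatB.Ru
end

private theorem dce_b6d675a2b327 : _root_.True := by
  try have : _root_.True := by simp only [_root_.Cfsg.Agent.H68.RatB.Ru.U.eq_1]
  exact _root_.True.intro
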